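import Mathlib
import Groth.Prelude
import Groth.Agent.Lib.Helper4.DimEq1
import Groth.Agent.Lib.Helper8.FlatReg5
import Groth.Agent.S0603

set_option linter.style.haveILetI false
set_option linter.unusedVariables false
set_option linter.unusedSectionVars false
set_option autoImplicit false
set_option backward.isDefEq.respectTransparency.types false
set_option synthInstance.maxHeartbeats 400000
set_option maxHeartbeats 800000

universe u

/-! helper7: helper7: closed points over a Dedekind base specialize from closed points of the generic fibre: Dedekind domains are universally catenary, a height-one criterion, the algebraic core via the dimension formula, and the scheme statement via the Jacobson property of fibres -/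

open CategoryTheory CategoryTheory.Limits AlgebraicGeometry TopologicalSpace

namespace Groth.Agent.Helper7.DedFib

/-- A Dedekind domain is universally catenary. -/
theorem uc_of_dedekind (R : Type u) [CommRing R] [IsDedekindDomain R] :
    CAlg.IsUniversallyCatenary R := by
  haveI : LocCoh.IsCohenMacaulayRing R :=
    { (inferInstance : IsNoetherianRing R) with
      isCohenMacaulayLocalRing_localization := fun p _ => by
        haveI : IsPrincipalIdealRing (Localization.AtPrime p) := by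
          apply IsPrincipalIdealRing.of_finite_maximals
          have h : {I : Ideal (Localization.AtPrime p) | I.IsMaximal} =
              {IsLocalRing.maximalIdeal (Localization.AtPrime p)} := by
            ext I
            exact IsLocalRing.isMaximal_iff _
          rw [h]
          exact Set.finite_singleton _
        haveI : IsRegularLocalRing (Localization.AtPrime p) := inferInstance
        exact Groth.Agent.Helper8.FlatReg.isCohenMacaulayLocalRing_of_isRegularLocalRing _ }
  exact Groth.Agent.S0603.result R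

/-- In a Noetherian domain, a prime all of whose nonzero sub-primes contain a fixed nonzero
element has height at most one. -/
theorem height_le_one_of_forall_mem {S : Type u} [CommRing S] [IsDomain S] [IsNoetherianRing S]
    (Q : Ideal S) [Q.IsPrime] (π : S) (hπ0 : π ≠ 0) (hπQ : π ∈ Q)
    (H : ∀ P : Ideal S, P.IsPrime → P ≤ Q → P ≠ ⊥ → π ∈ P) : Q.height ≤ 1 := by
  classical
  have hfin : (Ideal.span {π}).minimalPrimes.Finite :=
    Ideal.finite_minimalPrimes_of_isNoetherianRing S _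
  have hπle : Ideal.span {π} ≤ Q := (Ideal.span_singleton_le_iff_mem _).mpr hπQ
  obtain ⟨P₁, hP₁, hP₁Q⟩ := Ideal.exists_minimalPrimes_le hπle
  have hsub : (Q : Set S) ⊆ ⋃ P ∈ (↑hfin.toFinset : Set (Ideal S)), ((id P : Ideal S) : Set S) := by
    intro a ha
    rw [Set.mem_iUnion₂]
    by_cases ha0 : a = 0
    · refine ⟨P₁, ?_, ?_⟩
      · rw [Set.Finite.coe_toFinset]; exact hP₁
      · rw [ha0]; exact P₁.zero_mem
    · have hale : Ideal.span {a} ≤ Q := (Ideal.span_singleton_le_iff_mem _).mpr ha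
      obtain ⟨P', hP', hP'Q⟩ := Ideal.exists_minimalPrimes_le hale
      haveI : P'.IsPrime := hP'.1.1
      have haP' : a ∈ P' := hP'.1.2 (Ideal.mem_span_singleton_self a)
      have hP'0 : P' ≠ ⊥ := fun h => ha0 (by rw [h] at haP'; exact Ideal.mem_bot.mp haP')
      have hht : P'.height ≤ 1 :=
        Ideal.height_le_one_of_isPrincipal_of_mem_minimalPrimes _ _ hP'
      have hπP' : π ∈ P' := H P' inferInstance hP'Q hP'0
      obtain ⟨P'', hP'', hP''le⟩ :=
        Ideal.exists_minimalPrimes_le ((Ideal.span_singleton_le_iff_mem _).mpr hπP')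
      haveI : P''.IsPrime := hP''.1.1
      have hπP'' : π ∈ P'' := hP''.1.2 (Ideal.mem_span_singleton_self π)
      have heq : P'' = P' := by
        by_contra hne
        have hlt : P'' < P' := lt_of_le_of_ne hP''le hne
        have h1 : P''.height < ((1 : ℕ) : ℕ∞) :=
          (Ideal.height_le_iff (n := 1)).mp (by simpa using hht) P'' inferInstance hlt
        have h2 : P''.height = 0 := Order.lt_one_iff.mp (by simpa using h1)
        have h4 : P'' = ⊥ := Ideal.height_eq_zero_iff_eq_bot.mp h2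
        rw [h4] at hπP''
        exact hπ0 (Ideal.mem_bot.mp hπP'')
      refine ⟨P'', ?_, ?_⟩
      · rw [Set.Finite.coe_toFinset]; exact hP''
      · rw [heq]; exact haP'
  obtain ⟨P, hP, hQP⟩ := (Ideal.subset_union_prime (s := hfin.toFinset) (f := id) P₁ P₁
      (fun P hP _ _ => ((Set.Finite.mem_toFinset hfin).mp hP).1.1)).mp hsub
  have hP' : P ∈ (Ideal.span {π}).minimalPrimes := (Set.Finite.mem_toFinset hfin).mp hP
  have hPQ : P ≤ Q := hP'.2 ⟨inferInstance, hπle⟩ hQP
  have hQeq : Q = P := le_antisymm hQP hPQ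
  rw [hQeq]
  exact Ideal.height_le_one_of_isPrincipal_of_mem_minimalPrimes _ _ hP'

/-- The algebraic core: over a Dedekind domain, below a maximal ideal lying over a maximal ideal
and above a prime lying over zero, there is a prime lying over zero which is maximal among the
primes lying over zero. -/
theorem alg_main (R : Type u) [CommRing R] [IsDedekindDomain R] (A : Type u) [CommRing A]
    [Algebra R A] [Algebra.FiniteType R A] (q : Ideal A) [hq : q.IsMaximal]
    (hm : (q.comap (algebraMap R A)).IsMaximal)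
    (P₀ : Ideal A) [hP₀p : P₀.IsPrime] (hP₀q : P₀ ≤ q) (hP₀ : P₀.comap (algebraMap R A) = ⊥) :
    ∃ p : Ideal A, p.IsPrime ∧ P₀ ≤ p ∧ p ≤ q ∧ p.comap (algebraMap R A) = ⊥ ∧
      ∀ p'' : Ideal A, p''.IsPrime → p ≤ p'' → p''.comap (algebraMap R A) = ⊥ → p'' = p := by
  classical
  by_cases hm0 : q.comap (algebraMap R A) = ⊥
  · refine ⟨q, hq.isPrime, hP₀q, le_rfl, hm0, fun p'' hp'' hle _ => ?_⟩
    exact (hq.eq_of_le hp''.ne_top hle).symm
  obtain ⟨π, hπm, hπ0⟩ : ∃ π ∈ Ideal.comap (algebraMap R A) q, π ≠ 0 :=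
    Submodule.exists_mem_ne_zero_of_ne_bot hm0
  haveI : IsNoetherianRing A := Algebra.FiniteType.isNoetherianRing R A
  let T : Set (Ideal A) := {p | p.IsPrime ∧ P₀ ≤ p ∧ p ≤ q ∧ algebraMap R A π ∉ p}
  have hT0 : P₀ ∈ T := by
    refine ⟨hP₀p, le_rfl, hP₀q, fun h => hπ0 ?_⟩
    have h' : π ∈ P₀.comap (algebraMap R A) := h
    rw [hP₀] at h'
    exact Ideal.mem_bot.mp h'
  obtain ⟨p, hpT, hpmax⟩ : ∃ p : Ideal A, p ∈ T ∧ ∀ I ∈ T, ¬ p < I :=
    set_has_maximal_iff_noetherian.mpr (inferInstance : IsNoetherian A A) T ⟨P₀, hT0⟩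
  obtain ⟨hpp, hP₀p', hpq, hπp⟩ := hpT
  haveI := hpp
  have hpR : p.comap (algebraMap R A) = ⊥ := by
    by_contra hne
    haveI : (p.comap (algebraMap R A)).IsPrime := Ideal.comap_isPrime _ _
    have hmax : (p.comap (algebraMap R A)).IsMaximal := Ideal.IsPrime.isMaximal inferInstance hne
    have hle : p.comap (algebraMap R A) ≤ q.comap (algebraMap R A) := Ideal.comap_mono hpq
    have heq := hmax.eq_of_le hm.ne_top hle
    apply hπp
    have h' : π ∈ p.comap (algebraMap R A) := by rw [heq]; exact hπm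
    exact h'
  refine ⟨p, hpp, hP₀p', hpq, hpR, ?_⟩
  haveI : IsDomain (A ⧸ p) := Ideal.Quotient.isDomain p
  haveI : Algebra.FiniteType R (A ⧸ p) :=
    Algebra.FiniteType.of_surjective (Ideal.Quotient.mkₐ R p) (Ideal.Quotient.mkₐ_surjective R p)
  haveI : IsNoetherianRing (A ⧸ p) := Algebra.FiniteType.isNoetherianRing R (A ⧸ p)
  have hinj : Function.Injective (algebraMap R (A ⧸ p)) := by
    rw [injective_iff_map_eq_zero]
    intro r hr
    have h1 : algebraMap R A r ∈ p := by
      rw [← Ideal.Quotient.eq_zero_iff_mem]; exact hr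
    have h2 : r ∈ p.comap (algebraMap R A) := h1
    rw [hpR] at h2
    exact Ideal.mem_bot.mp h2
  haveI : FaithfulSMul R (A ⧸ p) := (faithfulSMul_iff_algebraMap_injective R (A ⧸ p)).mpr hinj
  have hQcomap : (q.map (Ideal.Quotient.mk p)).comap (Ideal.Quotient.mk p) = q :=
    Ideal.comap_map_mk hpq
  haveI hQmax : (q.map (Ideal.Quotient.mk p)).IsMaximal :=
    Ideal.IsMaximal.map_of_surjective_of_ker_le Ideal.Quotient.mk_surjective
      (by rw [Ideal.mk_ker]; exact hpq)
  haveI hQp : (q.map (Ideal.Quotient.mk p)).IsPrime := hQmax.isPrime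
  haveI : (q.comap (algebraMap R A)).IsMaximal := hm
  haveI : (q.comap (algebraMap R A)).IsPrime := hm.isPrime
  haveI hlo : (q.map (Ideal.Quotient.mk p)).LiesOver (q.comap (algebraMap R A)) := ⟨by
    show q.comap (algebraMap R A) = (q.map (Ideal.Quotient.mk p)).comap (algebraMap R (A ⧸ p))
    have h : algebraMap R (A ⧸ p) = (Ideal.Quotient.mk p).comp (algebraMap R A) := rfl
    rw [h, ← Ideal.comap_comap, hQcomap]⟩
  have hUC := uc_of_dedekind R
  have key := Groth.Agent.Lib.Helper4.DimEq1.S0555_main R hUC (A ⧸ p)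
    (q.comap (algebraMap R A)) (q.map (Ideal.Quotient.mk p))
  have htr0 : Algebra.trdeg (R ⧸ q.comap (algebraMap R A))
      ((A ⧸ p) ⧸ q.map (Ideal.Quotient.mk p)) = 0 := by
    letI : Field (R ⧸ q.comap (algebraMap R A)) := Ideal.Quotient.field _
    letI : Field ((A ⧸ p) ⧸ q.map (Ideal.Quotient.mk p)) := Ideal.Quotient.field _
    haveI : Algebra.FiniteType R ((A ⧸ p) ⧸ q.map (Ideal.Quotient.mk p)) :=
      Algebra.FiniteType.of_surjective (Ideal.Quotient.mkₐ R _) (Ideal.Quotient.mkₐ_surjective R _)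
    haveI : Algebra.FiniteType (R ⧸ q.comap (algebraMap R A))
        ((A ⧸ p) ⧸ q.map (Ideal.Quotient.mk p)) :=
      Algebra.FiniteType.of_restrictScalars_finiteType R _ _
    haveI : Module.Finite (R ⧸ q.comap (algebraMap R A))
        ((A ⧸ p) ⧸ q.map (Ideal.Quotient.mk p)) :=
      finite_of_finite_type_of_isJacobsonRing _ _
    haveI : Algebra.IsAlgebraic (R ⧸ q.comap (algebraMap R A))
        ((A ⧸ p) ⧸ q.map (Ideal.Quotient.mk p)) := Algebra.IsAlgebraic.of_finite _ _
    exact trdeg_eq_zero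
  have hQht : (q.map (Ideal.Quotient.mk p)).height ≤ 1 := by
    apply height_le_one_of_forall_mem _ (algebraMap R (A ⧸ p) π)
    · intro h
      exact hπ0 (hinj (by rw [h, map_zero]))
    · exact Ideal.mem_map_of_mem _ hπm
    · intro P hP hPQ hP0
      haveI := hP
      haveI : (P.comap (Ideal.Quotient.mk p)).IsPrime := Ideal.comap_isPrime _ _
      have hpP' : p ≤ P.comap (Ideal.Quotient.mk p) := by
        intro a ha
        show Ideal.Quotient.mk p a ∈ P
        rw [Ideal.Quotient.eq_zero_iff_mem.mpr ha]; exact P.zero_mem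
      have hP'q : P.comap (Ideal.Quotient.mk p) ≤ q := by
        rw [← hQcomap]; exact Ideal.comap_mono hPQ
      have hne : P.comap (Ideal.Quotient.mk p) ≠ p := by
        intro h
        apply hP0
        rw [← Ideal.map_comap_of_surjective (Ideal.Quotient.mk p) Ideal.Quotient.mk_surjective P,
          h, Ideal.map_quotient_self]
      have hlt : p < P.comap (Ideal.Quotient.mk p) := lt_of_le_of_ne hpP' (Ne.symm hne)
      by_contra hπP
      exact hpmax (P.comap (Ideal.Quotient.mk p))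
        ⟨inferInstance, hP₀p'.trans hpP', hP'q, fun h => hπP h⟩ hlt
  have hmht : 1 ≤ (q.comap (algebraMap R A)).height := by
    rw [Order.one_le_iff_ne_zero]
    intro h
    exact hm0 (Ideal.height_eq_zero_iff_eq_bot.mp h)
  have htr : Algebra.trdeg R (A ⧸ p) = 0 := by
    rw [htr0, add_zero] at key
    have h1 : ((q.map (Ideal.Quotient.mk p)).height : Cardinal.{u}) ≤ 1 :=
      Cardinal.ofENat_le_one.mpr hQht
    have h2 : (1 : Cardinal.{u}) ≤ ((q.comap (algebraMap R A)).height : Cardinal.{u}) :=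
      Cardinal.one_le_ofENat.mpr hmht
    have h3 : (1 : Cardinal.{u}) + Algebra.trdeg R (A ⧸ p) ≤ 1 := by
      calc (1 : Cardinal.{u}) + Algebra.trdeg R (A ⧸ p)
          ≤ ((q.comap (algebraMap R A)).height : Cardinal.{u}) + Algebra.trdeg R (A ⧸ p) :=
            add_le_add h2 le_rfl
        _ = ((q.map (Ideal.Quotient.mk p)).height : Cardinal.{u}) := key.symm
        _ ≤ 1 := h1
    by_contra hne
    have h4 : (1 : Cardinal.{u}) ≤ Algebra.trdeg R (A ⧸ p) := Cardinal.one_le_iff_ne_zero.mpr hne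
    have h5 : (1 : Cardinal.{u}) + 1 ≤ 1 := (add_le_add le_rfl h4).trans h3
    have h6 : ((2 : ℕ) : Cardinal.{u}) ≤ ((1 : ℕ) : Cardinal.{u}) := by
      rw [one_add_one_eq_two] at h5
      exact_mod_cast h5
    have h7 : (2 : ℕ) ≤ 1 := Nat.cast_le.mp h6
    omega
  haveI : Algebra.IsAlgebraic R (A ⧸ p) := trdeg_eq_zero_iff.mp htr
  intro p'' hp'' hle hp''R
  by_contra hne
  have hnle : ¬ p'' ≤ p := fun h => hne (le_antisymm h hle)
  obtain ⟨a, hap'', hap⟩ := Set.not_subset.mp hnle
  have ha0 : Ideal.Quotient.mk p a ≠ 0 := fun h => hap (Ideal.Quotient.eq_zero_iff_mem.mp h)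
  obtain ⟨r, hr0, hdvd⟩ := (Algebra.IsAlgebraic.isAlgebraic (R := R)
    (Ideal.Quotient.mk p a)).exists_nonzero_dvd (mem_nonZeroDivisors_of_ne_zero ha0)
  obtain ⟨c, hc⟩ := hdvd
  obtain ⟨c', rfl⟩ := Ideal.Quotient.mk_surjective c
  have h1 : algebraMap R A r - a * c' ∈ p := by
    rw [← Ideal.Quotient.eq, map_mul]
    exact hc
  have h2 : algebraMap R A r ∈ p'' := by
    have h : algebraMap R A r = (algebraMap R A r - a * c') + a * c' := by ring
    rw [h]
    exact p''.add_mem (hle h1) (p''.mul_mem_right _ hap'')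
  have h3 : r ∈ p''.comap (algebraMap R A) := h2
  rw [hp''R] at h3
  exact hr0 (Ideal.mem_bot.mp h3)

/-- Closed points of closed fibres over a Dedekind base are specializations of closed points of
the generic fibre. -/
theorem main {R : Type u} [CommRing R] [IsDedekindDomain R]
    {X : Scheme.{u}} [IrreducibleSpace X] (f : X ⟶ Spec (CommRingCat.of R))
    [LocallyOfFiniteType f]
    (hdom : DenseRange f.base) (x' : X) (hx' : IsClosed ({x'} : Set X))
    (hs : (f.base x').asIdeal.IsMaximal) :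
    ∃ x : X, (f.base x).asIdeal = ⊥ ∧
      (∀ z : X, (f.base z).asIdeal = ⊥ → x ⤳ z → z = x) ∧ x ⤳ x' := by
  classical
  set ξ := genericPoint X with hξ
  have hξf : (f.base ξ).asIdeal = ⊥ := by
    have hsub : Set.range f.base ⊆ closure {f.base ξ} := by
      rintro _ ⟨y, rfl⟩
      have hy : ξ ⤳ y := genericPoint_specializes y
      exact specializes_iff_mem_closure.mp (hy.map f.continuous)
    have h1 : closure ({f.base ξ} : Set (Spec (CommRingCat.of R))) = Set.univ := by
      apply Set.eq_univ_of_univ_subset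
      rw [← hdom.closure_range]
      exact closure_minimal hsub isClosed_closure
    let η₀ : Spec (CommRingCat.of R) := (⟨⊥, Ideal.isPrime_bot⟩ : PrimeSpectrum R)
    have hsp : f.base ξ ⤳ η₀ := specializes_iff_mem_closure.mpr (h1 ▸ Set.mem_univ _)
    have hle : (f.base ξ).asIdeal ≤ (⊥ : Ideal R) :=
      (PrimeSpectrum.le_iff_specializes (f.base ξ) η₀).mpr hsp
    exact le_bot_iff.mp hle
  obtain ⟨U, hU, hxU, -⟩ :=
    exists_isAffineOpen_mem_and_subset (U := (⊤ : X.Opens)) (x := x') trivial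
  have hξU : ξ ∈ U :=
    ((genericPoint_spec X).mem_open_set_iff U.2).mpr ⟨x', trivial, hxU⟩
  let j := hU.fromSpec
  let ψ : CommRingCat.of R ⟶ Γ(X, U) := Spec.preimage (j ≫ f)
  have hψ : Spec.map ψ = j ≫ f := Spec.map_preimage _
  letI : Algebra R Γ(X, U) := ψ.hom.toAlgebra
  haveI : Algebra.FiniteType R Γ(X, U) := by
    have h : LocallyOfFiniteType (Spec.map ψ) := by rw [hψ]; infer_instance
    exact (HasRingHomProperty.Spec_iff (P := @LocallyOfFiniteType)).mp h
  have hcomap : ∀ 𝔶 : PrimeSpectrum Γ(X, U),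
      (f.base (j.base 𝔶)).asIdeal = 𝔶.asIdeal.comap (algebraMap R Γ(X, U)) := by
    intro 𝔶
    have h : f.base (j.base 𝔶) = (Spec.map ψ).base 𝔶 := by rw [hψ]; rfl
    rw [h]; rfl
  have hspec : ∀ a b : PrimeSpectrum Γ(X, U), j.base a ⤳ j.base b ↔ a.asIdeal ≤ b.asIdeal := by
    intro a b
    rw [j.isOpenEmbedding.isInducing.specializes_iff]
    exact (PrimeSpectrum.le_iff_specializes a b).symm
  have hj𝔮 : j.base (hU.primeIdealOf ⟨x', hxU⟩) = x' := hU.fromSpec_primeIdealOf ⟨x', hxU⟩
  haveI hmax : (hU.primeIdealOf ⟨x', hxU⟩).asIdeal.IsMaximal :=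
    hU.primeIdealOf_isMaximal_of_isClosed ⟨x', hxU⟩ hx'
  have hj𝔓 : j.base (hU.primeIdealOf ⟨ξ, hξU⟩) = ξ := hU.fromSpec_primeIdealOf ⟨ξ, hξU⟩
  have h𝔓𝔮 : (hU.primeIdealOf ⟨ξ, hξU⟩).asIdeal ≤ (hU.primeIdealOf ⟨x', hxU⟩).asIdeal := by
    rw [← hspec, hj𝔓, hj𝔮]; exact genericPoint_specializes x'
  have h𝔓R : (hU.primeIdealOf ⟨ξ, hξU⟩).asIdeal.comap (algebraMap R Γ(X, U)) = ⊥ := by
    rw [← hcomap, hj𝔓]; exact hξf
  have hmR : ((hU.primeIdealOf ⟨x', hxU⟩).asIdeal.comap (algebraMap R Γ(X, U))).IsMaximal := by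
    rw [← hcomap, hj𝔮]; exact hs
  obtain ⟨𝔭, h𝔭p, h𝔓𝔭, h𝔭𝔮, h𝔭R, h𝔭max⟩ := alg_main R Γ(X, U)
    (hU.primeIdealOf ⟨x', hxU⟩).asIdeal hmR (hU.primeIdealOf ⟨ξ, hξU⟩).asIdeal h𝔓𝔮 h𝔓R
  let 𝔵 : PrimeSpectrum Γ(X, U) := ⟨𝔭, h𝔭p⟩
  set x := j.base 𝔵 with hx
  have hxU' : x ∈ U := by
    have h : x ∈ Set.range j.base := ⟨𝔵, rfl⟩
    rwa [hU.range_fromSpec] at h
  have hfx : (f.base x).asIdeal = ⊥ := by rw [hx, hcomap]; exact h𝔭R
  have hxx' : x ⤳ x' := by rw [← hj𝔮, hx, hspec]; exact h𝔭𝔮
  refine ⟨x, hfx, ?_, hxx'⟩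
  have hloc : ∀ y : X, y ∈ U → (f.base y).asIdeal = ⊥ → x ⤳ y → y = x := by
    intro y hyU hfy hxy
    have hj𝔶 : j.base (hU.primeIdealOf ⟨y, hyU⟩) = y := hU.fromSpec_primeIdealOf ⟨y, hyU⟩
    have h1 : 𝔭 ≤ (hU.primeIdealOf ⟨y, hyU⟩).asIdeal :=
      (hspec 𝔵 (hU.primeIdealOf ⟨y, hyU⟩)).mp (by rw [hj𝔶]; exact hxy)
    have h2 : (hU.primeIdealOf ⟨y, hyU⟩).asIdeal.comap (algebraMap R Γ(X, U)) = ⊥ := by
      rw [← hcomap, hj𝔶]; exact hfy
    have h3 := h𝔭max (hU.primeIdealOf ⟨y, hyU⟩).asIdeal (hU.primeIdealOf ⟨y, hyU⟩).2 h1 h2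
    rw [← hj𝔶, hx]
    congr 1
    exact PrimeSpectrum.ext h3
  set η := f.base x with hη
  haveI : JacobsonSpace ↥(f.base ⁻¹' {η}) :=
    JacobsonSpace.of_isClosedEmbedding (f.fiberHomeo η).symm.isClosedEmbedding
  let xF : ↥(f.base ⁻¹' {η}) := ⟨x, rfl⟩
  have hlc : IsLocallyClosed ({xF} : Set ↥(f.base ⁻¹' {η})) := by
    refine ⟨Subtype.val ⁻¹' (U : Set X), closure {xF}, U.2.preimage continuous_subtype_val,
      isClosed_closure, ?_⟩
    ext y
    constructor
    · intro hy
      have hy' : y = xF := hy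
      rw [hy']
      exact ⟨hxU', subset_closure (Set.mem_singleton _)⟩
    · rintro ⟨hyU, hycl⟩
      have hxy : xF ⤳ y := specializes_iff_mem_closure.mpr hycl
      have hxy' : x ⤳ y.1 := hxy.map continuous_subtype_val
      have hfy : (f.base y.1).asIdeal = ⊥ := by
        have h : f.base y.1 = η := y.2
        rw [h]; exact hfx
      have h := hloc y.1 hyU hfy hxy'
      exact Subtype.ext h
  have hcl : IsClosed ({xF} : Set ↥(f.base ⁻¹' {η})) :=
    isClosed_singleton_of_isLocallyClosed_singleton hlc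
  intro z hfz hxz
  have hzη : f.base z = η := PrimeSpectrum.ext (by rw [hfz]; exact hfx.symm)
  let zF : ↥(f.base ⁻¹' {η}) := ⟨z, hzη⟩
  have h1 : xF ⤳ zF := (subtype_specializes_iff xF zF).mpr hxz
  have h2 : zF ∈ closure {xF} := specializes_iff_mem_closure.mp h1
  rw [hcl.closure_eq] at h2
  exact congrArg Subtype.val h2

end Groth.Agent.Helper7.DedFib
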